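import Groth.Agent.HilbConn2Lib.Points
import Groth.Agent.S9623

/-! Connectedness of the Hilbert scheme of a connected affine scheme of finite type. -/

set_option autoImplicit false
set_option backward.isDefEq.respectTransparency false
set_option backward.isDefEq.respectTransparency.types false
set_option linter.style.haveILetI false
set_option maxHeartbeats 1000000
set_option synthInstance.maxHeartbeats 100000

universe u

open CategoryTheory AlgebraicGeometry TensorProduct Module

namespace Groth.Agent.HilbConn2Lib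

open HilbRepLib HilbDescLib HilbConnLib

section algebra

variable {K C : Type u} [Field K] [CommRing C] [Algebra K C]

lemma quot_finite_of_le {I P : Ideal C} (h : I ≤ P) [Module.Finite K (C ⧸ I.restrictScalars K)] :
    Module.Finite K (C ⧸ P) :=
  haveI : Module.Finite K (C ⧸ P.restrictScalars K) := Module.Finite.of_surjective
    (Submodule.factor (show I.restrictScalars K ≤ P.restrictScalars K from h)) (Submodule.factor_surjective _)
  Module.Finite.equiv (Submodule.Quotient.restrictScalarsEquiv K P)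

variable (K) in
lemma isMaximal_of_finite_quot {I P : Ideal C} [P.IsPrime] (h : I ≤ P)
    [Module.Finite K (C ⧸ I.restrictScalars K)] : P.IsMaximal := by
  haveI := quot_finite_of_le (K := K) h
  exact Ideal.Quotient.maximal_of_isField _ (isField_of_isIntegral_of_isField' (Field.toIsField K))

/-- A socle element of a quotient of finite length. -/
lemma exists_socle [IsAlgClosed K] [IsNoetherianRing C] {I J : Ideal C}
    [Module.Finite K (C ⧸ I.restrictScalars K)] (h : ¬ J ≤ I) :
    ∃ s ∈ J, s ∉ I ∧ finrank K (C ⧸ (I ⊔ Ideal.span {s}).restrictScalars K) + 1 =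
      finrank K (C ⧸ I.restrictScalars K) := by
  classical
  obtain ⟨s₀, hs₀, hs₀'⟩ := SetLike.not_le_iff_exists.mp h
  obtain ⟨(P : Ideal C), ⟨s, hsJ, hsI, hP⟩, hmax⟩ := set_has_maximal_iff_noetherian.mpr ‹IsNoetherianRing C›
    {P : Ideal C | ∃ s ∈ J, s ∉ I ∧ P = Submodule.comap (LinearMap.toSpanSingleton C C s) I}
    ⟨_, s₀, hs₀, hs₀', rfl⟩
  have hmem : ∀ c, c ∈ P ↔ c * s ∈ I := fun c => by rw [hP]; rfl
  have hIP : I ≤ P := fun c hc => (hmem c).mpr (I.mul_mem_right s hc)
  haveI : Ideal.IsPrime P := by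
    refine ⟨fun e => hsI ?_, ?_⟩
    · have := (hmem 1).mp (e ▸ Submodule.mem_top)
      rwa [one_mul] at this
    · intro a b hab
      by_contra hne
      push Not at hne
      have ha : a * s ∉ I := fun h => hne.1 ((hmem a).mpr h)
      let P' : Ideal C := Submodule.comap (LinearMap.toSpanSingleton C C (a * s)) I
      have hle : P ≤ P' := fun c hc => by
        show c * (a * s) ∈ I
        rw [mul_left_comm]
        exact I.mul_mem_left a ((hmem c).mp hc)
      have hb : b ∈ P' := by
        show b * (a * s) ∈ I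
        rw [← mul_assoc, mul_comm b a]
        exact (hmem _).mp hab
      exact hne.2 ((eq_of_le_of_not_lt hle (hmax P' ⟨a * s, J.mul_mem_left a hsJ, ha, rfl⟩)).symm ▸ hb)
  haveI : Ideal.IsMaximal P := isMaximal_of_finite_quot K hIP
  haveI := quot_finite_of_le (K := K) hIP
  letI : Field (C ⧸ P) := Ideal.Quotient.field P
  have hres := IsAlgClosed.algebraMap_bijective_of_isIntegral (k := K) (K := C ⧸ P)
  refine ⟨s, hsJ, hsI, ?_⟩
  let J' := I ⊔ Ideal.span {s}
  have hle : I.restrictScalars K ≤ J'.restrictScalars K := fun x hx => Ideal.mem_sup_left hx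
  let π := Submodule.factor hle
  let v : C ⧸ I.restrictScalars K := Submodule.Quotient.mk s
  have hv : v ≠ 0 := fun e => hsI ((Submodule.Quotient.mk_eq_zero _).mp e)
  have hker : LinearMap.ker π = Submodule.span K {v} := by
    refine le_antisymm (fun x hx => ?_) ?_
    · obtain ⟨x, rfl⟩ := Submodule.Quotient.mk_surjective _ x
      have hx' : x ∈ J' := (Submodule.Quotient.mk_eq_zero (J'.restrictScalars K)).mp hx
      obtain ⟨i, hi, w, hw, rfl⟩ := Submodule.mem_sup.mp hx'
      obtain ⟨c, rfl⟩ := Ideal.mem_span_singleton'.mp hw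
      obtain ⟨a, ha⟩ := hres.2 (Ideal.Quotient.mk P c)
      refine Submodule.mem_span_singleton.mpr ⟨a, ?_⟩
      rw [← Submodule.Quotient.mk_smul, Submodule.Quotient.eq]
      have h' : algebraMap K C a - c ∈ P := by
        rw [← Ideal.Quotient.eq]
        exact ha
      rw [show a • s - (i + c * s) = (algebraMap K C a - c) * s - i by rw [Algebra.smul_def]; ring]
      exact I.sub_mem ((hmem _).mp h') hi
    · rw [Submodule.span_le, Set.singleton_subset_iff]
      exact (Submodule.Quotient.mk_eq_zero (J'.restrictScalars K)).mpr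
        (Ideal.mem_sup_right (Ideal.mem_span_singleton_self s))
  have := π.finrank_range_add_finrank_ker
  rw [hker, finrank_span_singleton hv, LinearMap.range_eq_top.mpr (Submodule.factor_surjective hle), finrank_top] at this
  exact this

lemma finrank_quot_mono {I J : Ideal C} [Module.Finite K (C ⧸ I.restrictScalars K)] (h : I ≤ J) :
    finrank K (C ⧸ J.restrictScalars K) ≤ finrank K (C ⧸ I.restrictScalars K) :=
  LinearMap.finrank_le_finrank_of_surjective
    (Submodule.factor_surjective (show I.restrictScalars K ≤ J.restrictScalars K from h))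

lemma finrank_quot_lt {I J : Ideal C} [Module.Finite K (C ⧸ I.restrictScalars K)] (h : I < J) :
    finrank K (C ⧸ J.restrictScalars K) < finrank K (C ⧸ I.restrictScalars K) := by
  have hle : I.restrictScalars K ≤ J.restrictScalars K := h.le
  let π := Submodule.factor hle
  obtain ⟨x, hxJ, hxI⟩ := SetLike.exists_of_lt h
  have hne : LinearMap.ker π ≠ ⊥ := fun e => hxI ((Submodule.Quotient.mk_eq_zero (I.restrictScalars K)).mp
    ((Submodule.eq_bot_iff _).mp e _ ((Submodule.Quotient.mk_eq_zero (J.restrictScalars K)).mpr hxJ)))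
  have hpos : 0 < finrank K (LinearMap.ker π) := Nat.pos_of_ne_zero fun e => hne (Submodule.finrank_eq_zero.mp e)
  have := π.finrank_range_add_finrank_ker
  rw [LinearMap.range_eq_top.mpr (Submodule.factor_surjective hle), finrank_top] at this
  omega

lemma quot_inf_finite (I J : Ideal C) [Module.Finite K (C ⧸ I.restrictScalars K)]
    [Module.Finite K (C ⧸ J.restrictScalars K)] : Module.Finite K (C ⧸ (I ⊓ J).restrictScalars K) := by
  let f := ((I.restrictScalars K).mkQ).prod (J.restrictScalars K).mkQ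
  have hf : LinearMap.ker f = (I ⊓ J).restrictScalars K := by
    ext x
    simp [f, Submodule.Quotient.mk_eq_zero]
  exact Module.Finite.equiv ((f.quotKerEquivRange).symm.trans (Submodule.quotEquivOfEq _ _ hf))

end algebra

section points

variable {k B : Type u} [Field k] [CommRing B] [Algebra k B] {n : ℕ}
  {H : Over (Spec (CommRingCat.of k))} (Z : HilbD.Obj (str k B) n H) (hH : HilbD.IsUniversal (str k B) n H Z)

variable {K : Type u} [Field K] [Algebra k K]

include hH

section fixed

variable (J : Ideal (K ⊗[k] B)) {m : ℕ} [Module.Finite K ((K ⊗[k] B) ⧸ J.restrictScalars K)]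
  (hm : finrank K ((K ⊗[k] B) ⧸ J.restrictScalars K) = m) (hn : n = m + 1)

include hn in
/-- All points of the moving part are linked. -/
theorem linked_all [Algebra.FiniteType k B] [PreconnectedSpace (PrimeSpectrum (K ⊗[k] B))] (d d' : Dat J) :
    Linked Z J hm d d' := by
  classical
  haveI : IsNoetherianRing (K ⊗[k] B) := Algebra.FiniteType.isNoetherianRing K _
  let pt : Dat J → PrimeSpectrum (K ⊗[k] B) := fun e => ⟨RingHom.ker e.ψ, RingHom.ker_isPrime _⟩
  rcases subsingleton_or_nontrivial (PrimeSpectrum (K ⊗[k] B)) with hss | hnt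
  · exact linked_same_ker Z hH J hm hn d d' (congrArg PrimeSpectrum.asIdeal (Subsingleton.elim (pt d) (pt d')))
  have hfin := minimalPrimes.finite_of_isNoetherianRing (K ⊗[k] B)
  have hmin : ∀ q ∈ minimalPrimes (K ⊗[k] B), ∀ p : Ideal (K ⊗[k] B), p.IsPrime → p ≤ q → p = q :=
    fun q hq p hp h => le_antisymm h (hq.2 ⟨hp, bot_le⟩ h)
  have hex : ∀ p : PrimeSpectrum (K ⊗[k] B), ∃ q ∈ minimalPrimes (K ⊗[k] B), q ≤ p.asIdeal :=
    fun p => Ideal.exists_minimalPrimes_le bot_le
  have hnmax : ∀ q ∈ minimalPrimes (K ⊗[k] B), ¬ q.IsMaximal := by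
    intro q hq hqm
    let x : PrimeSpectrum (K ⊗[k] B) := ⟨q, hq.1.1⟩
    have hcl : IsClopen ({x} : Set (PrimeSpectrum (K ⊗[k] B))) := by
      refine ⟨(PrimeSpectrum.isClosed_singleton_iff_isMaximal x).mpr hqm, ?_⟩
      rw [← isClosed_compl_iff]
      have e : ({x} : Set (PrimeSpectrum (K ⊗[k] B)))ᶜ =
          ⋃ q' ∈ minimalPrimes (K ⊗[k] B) \ {q}, PrimeSpectrum.zeroLocus (q' : Set (K ⊗[k] B)) := by
        ext p
        simp only [Set.mem_compl_iff, Set.mem_singleton_iff, Set.mem_iUnion, PrimeSpectrum.mem_zeroLocus,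
          SetLike.coe_subset_coe, exists_prop, Set.mem_diff]
        constructor
        · intro hp
          obtain ⟨q', hq', hle⟩ := hex p
          refine ⟨q', ⟨hq', fun e => hp (PrimeSpectrum.ext ?_)⟩, hle⟩
          subst e
          exact (hqm.eq_of_le p.isPrime.ne_top hle).symm
        · rintro ⟨q', ⟨hq', hne⟩, hle⟩ rfl
          exact hne (hmin q hq q' hq'.1.1 hle)
      rw [e]
      exact (hfin.subset Set.diff_subset).isClosed_biUnion fun _ _ => PrimeSpectrum.isClosed_zeroLocus _
    obtain ⟨y, hy⟩ := exists_ne x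
    exact hy (Set.eq_univ_iff_forall.mp (hcl.eq_univ ⟨x, rfl⟩) y)
  have hJq : ∀ q ∈ minimalPrimes (K ⊗[k] B), ¬ J ≤ q := fun q hq h => by
    haveI : q.IsPrime := hq.1.1
    exact hnmax q hq (isMaximal_of_finite_quot K h)
  have hspec : ∀ q ∈ minimalPrimes (K ⊗[k] B), ∀ p : Ideal (K ⊗[k] B), p.IsPrime → q < p →
      ∃ e e' : Dat J, RingHom.ker e.ψ = q ∧ RingHom.ker e'.ψ = p ∧ Linked Z J hm e e' := fun q hq p hp h => by
    haveI : q.IsPrime := hq.1.1
    exact exists_linked_specialization Z hH J hm hn q p h (hJq q hq)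
  have hlink : ∀ q ∈ minimalPrimes (K ⊗[k] B), ∀ e e' : Dat J, RingHom.ker e.ψ = q → q ≤ RingHom.ker e'.ψ →
      Linked Z J hm e e' := by
    intro q hq e e' he hle
    rcases eq_or_lt_of_le hle with h | h
    · exact linked_same_ker Z hH J hm hn e e' (he.trans h)
    · obtain ⟨f, f', hf, hf', hl⟩ := hspec q hq _ (RingHom.ker_isPrime _) h
      exact linked_trans Z hH J hm hn (linked_same_ker Z hH J hm hn e f (he.trans hf.symm))
        (linked_trans Z hH J hm hn hl (linked_same_ker Z hH J hm hn f' e' hf'))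
  have hdat : ∀ q ∈ minimalPrimes (K ⊗[k] B), ∃ e : Dat J, RingHom.ker e.ψ = q := by
    intro q hq
    obtain ⟨M, hM, hle⟩ := Ideal.exists_le_maximal q hq.1.1.ne_top
    obtain ⟨e, -, he, -⟩ := hspec q hq M hM.isPrime (lt_of_le_of_ne hle fun h => hnmax q hq (h.symm ▸ hM))
    exact ⟨e, he⟩
  obtain ⟨q₀, hq₀, hle₀⟩ := hex (pt d)
  obtain ⟨e₀, he₀⟩ := hdat q₀ hq₀
  let S : Set (Ideal (K ⊗[k] B)) :=
    {q ∈ minimalPrimes (K ⊗[k] B) | ∀ e : Dat J, RingHom.ker e.ψ = q → Linked Z J hm e₀ e}
  let A := ⋃ q ∈ S, PrimeSpectrum.zeroLocus (q : Set (K ⊗[k] B))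
  have hA : IsClopen A := by
    refine ⟨(hfin.subset fun _ h => h.1).isClosed_biUnion fun _ _ => PrimeSpectrum.isClosed_zeroLocus _, ?_⟩
    rw [← isClosed_compl_iff]
    have e : Aᶜ = ⋃ q ∈ minimalPrimes (K ⊗[k] B) \ S, PrimeSpectrum.zeroLocus (q : Set (K ⊗[k] B)) := by
      ext p
      simp only [A, Set.mem_compl_iff, Set.mem_iUnion, PrimeSpectrum.mem_zeroLocus, SetLike.coe_subset_coe,
        exists_prop, Set.mem_diff, not_exists, not_and]
      constructor
      · intro hp
        obtain ⟨q, hq, hle⟩ := hex p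
        exact ⟨q, ⟨hq, fun hS => hp q hS hle⟩, hle⟩
      · rintro ⟨q', ⟨hq', hS'⟩, hle'⟩ q hS hle
        refine hS' ⟨hq', fun e' he' => ?_⟩
        obtain ⟨eq, heq⟩ := hdat q hS.1
        rcases eq_or_lt_of_le hle with h | h
        · exact hS.2 e' (he'.trans (hmin q hS.1 q' hq'.1.1 (h.symm ▸ hle')))
        · obtain ⟨f, f', hf, hf', hl⟩ := hspec q hS.1 _ p.isPrime h
          exact linked_trans Z hH J hm hn (linked_trans Z hH J hm hn (hS.2 f hf) hl)
            (linked_symm Z J hm (hlink q' hq' e' f' he' (hf'.symm ▸ hle')))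
    rw [e]
    exact (hfin.subset Set.diff_subset).isClosed_biUnion fun _ _ => PrimeSpectrum.isClosed_zeroLocus _
  have huniv : A = Set.univ := hA.eq_univ ⟨⟨q₀, hq₀.1.1⟩, Set.mem_biUnion (show q₀ ∈ S from
    ⟨hq₀, fun e he => linked_same_ker Z hH J hm hn e₀ e (he₀.trans he.symm)⟩) ((PrimeSpectrum.mem_zeroLocus _ _).mpr (Set.Subset.refl _))⟩
  have hall : ∀ e : Dat J, Linked Z J hm e₀ e := by
    intro e
    obtain ⟨q, hS, hle⟩ := Set.mem_iUnion₂.mp (show pt e ∈ A from huniv ▸ Set.mem_univ _)
    obtain ⟨f, hf⟩ := hdat q hS.1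
    exact linked_trans Z hH J hm hn (hS.2 f hf) (hlink q hS.1 f e hf hle)
  exact linked_trans Z hH J hm hn (linked_symm Z J hm (hall d)) (hall d')

omit hH in
lemma toLine_self (x : K ⊗[k] B) : toLine k K B K x = x := by
  induction x using TensorProduct.induction_on with
  | zero => simp
  | tmul a b => simp [toLine]
  | add a b ha hb => rw [map_add, ha, hb]

omit hH in
include hn in
/-- An ideal of colength one in the fixed ideal is given by a point. -/
theorem exists_dat_of_le (I : Ideal (K ⊗[k] B)) [Module.Finite K ((K ⊗[k] B) ⧸ I.restrictScalars K)]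
    (hI : finrank K ((K ⊗[k] B) ⧸ I.restrictScalars K) = n) (hIJ : I ≤ J) :
    ∃ d : Dat J, Img Z K I ⊆ datImg Z J hm d := by
  classical
  obtain ⟨t, htJ, htI⟩ : ∃ t ∈ J, t ∉ I := by
    refine SetLike.not_le_iff_exists.mp fun h => ?_
    have := finrank_quot_mono (K := K) h
    omega
  have hle : I.restrictScalars K ≤ J.restrictScalars K := hIJ
  let π := Submodule.factor hle
  have hker1 : finrank K (LinearMap.ker π) = 1 := by
    have := π.finrank_range_add_finrank_ker
    rw [LinearMap.range_eq_top.mpr (Submodule.factor_surjective hle), finrank_top] at this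
    omega
  have hco : ∀ j ∈ J, ∃ a : K, j - a • t ∈ I := by
    intro j hj
    let v : LinearMap.ker π := ⟨Submodule.Quotient.mk t, (Submodule.Quotient.mk_eq_zero (J.restrictScalars K)).mpr htJ⟩
    have hv : v ≠ 0 := fun e => htI ((Submodule.Quotient.mk_eq_zero (I.restrictScalars K)).mp (congrArg Subtype.val e))
    obtain ⟨a, ha⟩ := (finrank_eq_one_iff_of_nonzero' v hv).mp hker1
      ⟨Submodule.Quotient.mk j, (Submodule.Quotient.mk_eq_zero (J.restrictScalars K)).mpr hj⟩
    refine ⟨a, (Submodule.Quotient.eq (I.restrictScalars K)).mp ?_⟩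
    rw [Submodule.Quotient.mk_smul]
    exact (congrArg Subtype.val ha).symm
  have huniq : ∀ a b : K, (a - b) • t ∈ I → a = b := fun a b h => by
    by_contra hne
    have := (I.restrictScalars K).smul_mem (a - b)⁻¹ h
    rw [inv_smul_smul₀ (sub_ne_zero.mpr hne)] at this
    exact htI this
  choose a ha using hco
  have key : ∀ (j : K ⊗[k] B) (hj : j ∈ J) (b : K), j - b • t ∈ I → a j hj = b := fun j hj b hb => huniq _ _ (by
    have := I.sub_mem hb (ha j hj)
    rwa [sub_sub_sub_cancel_left, ← sub_smul] at this)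
  let ψ : K ⊗[k] B →ₐ[K] K :=
    { toFun := fun c => a (c * t) (J.mul_mem_left c htJ)
      map_one' := key _ _ 1 (by simp)
      map_mul' := fun c c' => key _ _ _ (by
        have h1 := ha (c * t) (J.mul_mem_left c htJ)
        have h2 := ha (c' * t) (J.mul_mem_left c' htJ)
        generalize a (c * t) (J.mul_mem_left c htJ) = x at h1 ⊢
        generalize a (c' * t) (J.mul_mem_left c' htJ) = y at h2 ⊢
        have := I.add_mem (I.mul_mem_left c h2) ((I.restrictScalars K).smul_mem y h1)
        simp only [Algebra.smul_def, map_mul] at this ⊢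
        convert this using 1
        ring)
      map_zero' := key _ _ 0 (by simp)
      map_add' := fun c c' => key _ _ _ (by
        have := I.add_mem (ha (c * t) (J.mul_mem_left c htJ)) (ha (c' * t) (J.mul_mem_left c' htJ))
        convert this using 1
        rw [add_smul, add_mul]; abel)
      commutes' := fun x => key _ _ _ (by simp [Algebra.smul_def]) }
  let ρ : J.restrictScalars K →ₗ[K] K :=
    { toFun := fun j => a j.1 j.2
      map_add' := fun j j' => key _ _ _ (by
        have := I.add_mem (ha j.1 j.2) (ha j'.1 j'.2)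
        convert this using 1
        rw [add_smul, Submodule.coe_add]; abel)
      map_smul' := fun x j => key _ _ _ (by
        have := (I.restrictScalars K).smul_mem x (ha j.1 j.2)
        rw [smul_sub, smul_smul] at this
        exact this) }
  have hρ : ∀ (c : K ⊗[k] B) (j : J.restrictScalars K), ρ ⟨c * (j : K ⊗[k] B), J.mul_mem_left c j.2⟩ = ψ c * ρ j :=
    fun c j => key _ _ _ (by
      show c * (j : K ⊗[k] B) - (a (c * t) (J.mul_mem_left c htJ) * a j.1 j.2) • t ∈ I
      have h1 := ha (c * t) (J.mul_mem_left c htJ)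
      have h2 := ha j.1 j.2
      generalize a (c * t) (J.mul_mem_left c htJ) = x at h1 ⊢
      generalize a j.1 j.2 = y at h2 ⊢
      have := I.add_mem (I.mul_mem_left c h2) ((I.restrictScalars K).smul_mem y h1)
      simp only [Algebra.smul_def, map_mul] at this ⊢
      convert this using 1
      ring)
  have hspan : Ideal.span (Set.range ρ) = ⊤ := by
    rw [Ideal.eq_top_iff_one]
    exact Ideal.subset_span ⟨⟨t, htJ⟩, key _ _ 1 (by simp)⟩
  refine ⟨⟨K, ψ, ρ, hρ, hspan⟩, ?_⟩
  have hle' : I ≤ famIdeal J hm ρ ψ hρ := fun x hx => by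
    rw [mem_famIdeal, ← toLine_self x, famMap_toLine_mem J hm ρ (hIJ hx)]
    rw [show ρ ⟨x, hIJ hx⟩ = 0 from key _ _ 0 (by simpa using hx)]
    exact funext (Fin.cases (by simp) fun i => by simp)
  obtain ⟨e'⟩ := famIdeal_quot J hm ρ ψ hρ hspan
  have e := eq_of_le_of_quot hle' ((Module.finBasisOfFinrankEq K _ (hI.trans hn)).equivFun) e'
  exact fun x hx => show x ∈ Img Z K (famIdeal J hm ρ ψ hρ) from e ▸ hx

end fixed

/-- Points over one algebraically closed field lie in one component. -/
theorem ideals_linked [IsAlgClosed K] [Algebra.FiniteType k B] [PreconnectedSpace (PrimeSpectrum (K ⊗[k] B))] :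
    ∀ I J : Ideal (K ⊗[k] B), Module.Finite K ((K ⊗[k] B) ⧸ I.restrictScalars K) →
      Module.Finite K ((K ⊗[k] B) ⧸ J.restrictScalars K) → finrank K ((K ⊗[k] B) ⧸ I.restrictScalars K) = n →
      finrank K ((K ⊗[k] B) ⧸ J.restrictScalars K) = n →
      ∀ x ∈ Img Z K I, ∀ y ∈ Img Z K J, y ∈ connectedComponent x := by
  classical
  haveI : IsNoetherianRing (K ⊗[k] B) := Algebra.FiniteType.isNoetherianRing K _
  haveI : PreconnectedSpace (PrimeSpectrum K) := ⟨Set.subsingleton_univ.isPreconnected⟩
  intro I J fI fJ hI hJ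
  generalize hd : finrank K ((K ⊗[k] B) ⧸ (I ⊓ J).restrictScalars K) = d
  induction d using Nat.strong_induction_on generalizing I with
  | _ d ih =>
    haveI := fI
    haveI := fJ
    by_cases hJI : J ≤ I
    · intro x hx y hy
      rw [eq_of_le_of_quot hJI (Module.finBasisOfFinrankEq K _ hJ).equivFun
        (Module.finBasisOfFinrankEq K _ hI).equivFun] at hy
      exact (img_preconnected Z hH K I).subset_connectedComponent hx hy
    obtain ⟨s, hsJ, hsI, hs⟩ := exists_socle (K := K) hJI
    set J' := I ⊔ Ideal.span {s} with hJ'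
    haveI fJ' : Module.Finite K ((K ⊗[k] B) ⧸ J'.restrictScalars K) :=
      Module.Finite.of_surjective (Submodule.factor (show I.restrictScalars K ≤ J'.restrictScalars K from
        fun x hx => Ideal.mem_sup_left hx)) (Submodule.factor_surjective _)
    have hsJ' : s ∈ J' := Ideal.mem_sup_right (Ideal.mem_span_singleton_self s)
    have hlt : J' ⊓ J < J' := inf_lt_left.mpr fun h => by
      have := finrank_quot_mono (K := K) h
      omega
    obtain ⟨M, ⟨hM1, hM2⟩, hMmax⟩ := set_has_maximal_iff_noetherian.mpr ‹IsNoetherianRing (K ⊗[k] B)›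
      {M : Ideal (K ⊗[k] B) | J' ⊓ J ≤ M ∧ M < J'} ⟨_, le_rfl, hlt⟩
    haveI := quot_inf_finite (K := K) J' J
    haveI fM : Module.Finite K ((K ⊗[k] B) ⧸ M.restrictScalars K) :=
      Module.Finite.of_surjective (Submodule.factor (show (J' ⊓ J).restrictScalars K ≤ M.restrictScalars K from hM1))
        (Submodule.factor_surjective _)
    obtain ⟨t, htJ', htM, ht⟩ := exists_socle (K := K) (I := M) (J := J') hM2.not_ge
    have hMt : M ⊔ Ideal.span {t} = J' := by
      have hle : M ⊔ Ideal.span {t} ≤ J' := sup_le hM2.le ((Ideal.span_singleton_le_iff_mem J').mpr htJ')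
      refine (eq_or_lt_of_le hle).elim id fun hlt' => absurd ?_ (hMmax _ ⟨hM1.trans le_sup_left, hlt'⟩)
      exact lt_of_le_of_ne le_sup_left fun h => htM (h ▸ Ideal.mem_sup_right (Ideal.mem_span_singleton_self t))
    rw [hMt] at ht
    have hM : finrank K ((K ⊗[k] B) ⧸ M.restrictScalars K) = n := by omega
    obtain ⟨dI, hdI⟩ := exists_dat_of_le Z J' (m := finrank K ((K ⊗[k] B) ⧸ J'.restrictScalars K)) rfl
      (by omega) I hI le_sup_left
    obtain ⟨dM, hdM⟩ := exists_dat_of_le Z J' (m := finrank K ((K ⊗[k] B) ⧸ J'.restrictScalars K)) rfl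
      (by omega) M hM hM2.le
    have hl := linked_all Z hH J' (m := finrank K ((K ⊗[k] B) ⧸ J'.restrictScalars K)) rfl (by omega) dI dM
    haveI := quot_inf_finite (K := K) I J
    have hdec : finrank K ((K ⊗[k] B) ⧸ (M ⊓ J).restrictScalars K) < d := by
      rw [← hd]
      refine finrank_quot_lt (lt_of_le_of_ne (fun x hx => ⟨hM1 ⟨Ideal.mem_sup_left hx.1, hx.2⟩, hx.2⟩) fun e => hsI ?_)
      have : s ∈ M ⊓ J := ⟨hM1 ⟨hsJ', hsJ⟩, hsJ⟩
      rw [← e] at this
      exact this.1
    intro x hx y hy
    obtain ⟨w, hw⟩ := img_nonempty Z hH K M ⟨(Module.finBasisOfFinrankEq K _ hM).equivFun⟩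
    rw [connectedComponent_eq (hl x (hdI hx) w (hdM hw))]
    exact ih _ hdec M fM hM rfl w hw y hy

end points

/-- The Hilbert scheme of points of a connected affine scheme of finite type over an algebraically
closed field is preconnected. -/
theorem preconnected_affine {k B : Type u} [Field k] [IsAlgClosed k] [CommRing B] [Algebra k B]
    [Algebra.FiniteType k B] [ConnectedSpace (PrimeSpectrum B)] {n : ℕ}
    {H : Over (Spec (CommRingCat.of k))} (Z : HilbD.Obj (str k B) n H) (hH : HilbD.IsUniversal (str k B) n H Z) :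
    PreconnectedSpace H.left := by
  classical
  rw [preconnectedSpace_iff_connectedComponent]
  refine fun x => Set.eq_univ_of_forall fun y => ?_
  let φ : ∀ w : ↥H.left, k →+* H.left.residueField w :=
    fun w => (Spec.preimage (H.left.fromSpecResidueField w ≫ H.hom)).hom
  letI := (φ x).toAlgebra
  letI := (φ y).toAlgebra
  haveI : Nontrivial (H.left.residueField x ⊗[k] H.left.residueField y) :=
    (Algebra.TensorProduct.includeLeft_injective (S := k) (algebraMap k (H.left.residueField y)).injective).nontrivial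
  obtain ⟨M, hM⟩ := Ideal.exists_maximal (H.left.residueField x ⊗[k] H.left.residueField y)
  letI := Ideal.Quotient.field M
  let L := (H.left.residueField x ⊗[k] H.left.residueField y) ⧸ M
  let K := AlgebraicClosure L
  let ux : H.left.residueField x →ₐ[k] K :=
    ((IsScalarTower.toAlgHom k L K).comp (Ideal.Quotient.mkₐ k M)).comp Algebra.TensorProduct.includeLeft
  let uy : H.left.residueField y →ₐ[k] K :=
    ((IsScalarTower.toAlgHom k L K).comp (Ideal.Quotient.mkₐ k M)).comp Algebra.TensorProduct.includeRight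
  let gx : test (CommAlgCat.of k K) ⟶ H :=
    tm ux ≫ Over.homMk (H.left.fromSpecResidueField x) (Spec.map_preimage _).symm
  let gy : test (CommAlgCat.of k K) ⟶ H :=
    tm uy ≫ Over.homMk (H.left.fromSpecResidueField y) (Spec.map_preimage _).symm
  haveI : ConnectedSpace (PrimeSpectrum K) :=
    { toPreconnectedSpace := ⟨Set.subsingleton_univ.isPreconnected⟩, toNonempty := inferInstance }
  haveI := S9623.result (k := k) (R := K) (S := B)
  have hfin : ∀ g : test (CommAlgCat.of k K) ⟶ H, Module.Finite K ((K ⊗[k] B) ⧸ (idl Z g).restrictScalars K) ∧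
      finrank K ((K ⊗[k] B) ⧸ (idl Z g).restrictScalars K) = n := fun g => by
    let W := grOf (⟨HilbD.pull (str k B) g Z.1, HilbCurveLib.pull_deg (str k B) g Z.2⟩ :
      HilbD.Obj (str k B) n (test (CommAlgCat.of k K)))
    refine ⟨W.finite_quotient, ?_⟩
    have h := W.rankAtStalk_eq (IsLocalRing.closedPoint K)
    rw [Module.rankAtStalk_eq_finrank_of_free] at h
    exact h
  obtain ⟨z⟩ : Nonempty (PrimeSpectrum K) := inferInstance
  have ex : gx.left z = x := H.left.fromSpecResidueField_apply x _
  have ey : gy.left z = y := H.left.fromSpecResidueField_apply y _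
  exact ideals_linked Z hH (idl Z gx) (idl Z gy) (hfin gx).1 (hfin gy).1 (hfin gx).2 (hfin gy).2
    x ⟨gx, rfl, z, ex.symm⟩ y ⟨gy, rfl, z, ey.symm⟩

end Groth.Agent.HilbConn2Lib
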