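import Groth.Agent.HilbConnLib.Main

/-! Families of ideals of colength one inside a fixed ideal of finite colength. -/

set_option autoImplicit false
set_option backward.isDefEq.respectTransparency false
set_option backward.isDefEq.respectTransparency.types false
set_option linter.style.haveILetI false
set_option maxHeartbeats 1000000
set_option synthInstance.maxHeartbeats 100000

universe u

open TensorProduct Module

namespace Groth.Agent.HilbConn2Lib

open HilbConnLib

variable {k K B D : Type u} [Field k] [Field K] [Algebra k K] [CommRing B] [Algebra k B]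
  [CommRing D] [Algebra K D] [Algebra k D] [IsScalarTower k K D]
  (J : Ideal (K ⊗[k] B))

/-- A linear retraction onto `J`. -/
noncomputable def retr : K ⊗[k] B →ₗ[K] J.restrictScalars K :=
  (LinearMap.exists_leftInverse_of_injective (J.restrictScalars K).subtype (Submodule.ker_subtype _)).choose

lemma retr_of_mem {c : K ⊗[k] B} (hc : c ∈ J) : ((retr J c : J.restrictScalars K) : K ⊗[k] B) = c :=
  congrArg Subtype.val (LinearMap.congr_fun
    (LinearMap.exists_leftInverse_of_injective (J.restrictScalars K).subtype (Submodule.ker_subtype _)).choose_spec ⟨c, hc⟩)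

variable {m : ℕ} [Module.Finite K ((K ⊗[k] B) ⧸ J.restrictScalars K)]
  (hm : finrank K ((K ⊗[k] B) ⧸ J.restrictScalars K) = m)

/-- Coordinates modulo `J`. -/
noncomputable def coord : K ⊗[k] B →ₗ[K] (Fin m → K) :=
  (Module.finBasisOfFinrankEq K _ hm).equivFun.toLinearMap ∘ₗ (J.restrictScalars K).mkQ

lemma coord_eq_zero {c : K ⊗[k] B} (hc : c ∈ J) : coord J hm c = 0 := by
  have h : (J.restrictScalars K).mkQ c = 0 := (Submodule.Quotient.mk_eq_zero _).mpr hc
  rw [coord, LinearMap.comp_apply, h, map_zero]

/-- Elements outside `J` giving a basis of the quotient. -/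
noncomputable def gen (i : Fin m) : K ⊗[k] B :=
  let l := ((J.restrictScalars K).mkQ_surjective ((Module.finBasisOfFinrankEq K _ hm) i)).choose
  l - (retr J l : K ⊗[k] B)

lemma retr_gen (i : Fin m) : retr J (gen J hm i) = 0 := by
  rw [gen, map_sub, sub_eq_zero]
  exact Subtype.ext (retr_of_mem J (retr J _).2).symm

lemma coord_gen (i : Fin m) : coord J hm (gen J hm i) = Pi.single i 1 := by
  rw [gen, map_sub, coord_eq_zero J hm (retr J _).2, sub_zero, coord, LinearMap.comp_apply,
    ((J.restrictScalars K).mkQ_surjective ((Module.finBasisOfFinrankEq K _ hm) i)).choose_spec]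
  ext j
  rcases eq_or_ne j i with rfl | h
  · simp
  · simp [Finsupp.single_eq_of_ne h, Pi.single_eq_of_ne h, Finsupp.single_apply, h.symm]

lemma eq_retr_add (c : K ⊗[k] B) : c = (retr J c : K ⊗[k] B) + ∑ i, coord J hm c i • gen J hm i := by
  have hmem : c - ∑ i, coord J hm c i • gen J hm i ∈ J := by
    refine (Submodule.Quotient.mk_eq_zero (J.restrictScalars K)).mp ((Module.finBasisOfFinrankEq K _ hm).equivFun.injective ?_)
    show coord J hm (c - _) = _
    rw [map_zero, map_sub, map_sum, sub_eq_zero]
    simp only [map_smul, coord_gen]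
    exact (Finset.univ_sum_single (coord J hm c)).symm.trans (Finset.sum_congr rfl fun i _ => by
      ext j; simp [Pi.single_apply])
  have h := retr_of_mem J hmem
  rw [map_sub, map_sum] at h
  simp only [map_smul, retr_gen, smul_zero, Finset.sum_const_zero, sub_zero] at h
  rw [h, sub_add_cancel]

variable (ρ : J.restrictScalars K →ₗ[K] D)

/-- The quotient map of a family. -/
noncomputable def famMap : D ⊗[k] B →ₗ[D] (Fin (m + 1) → D) :=
  LinearMap.liftBaseChange D
    { toFun := fun r => Fin.cons (ρ (retr J ((1 : K) ⊗ₜ r))) fun i => algebraMap K D (coord J hm ((1 : K) ⊗ₜ r) i)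
      map_add' := fun r r' => by
        ext j; refine Fin.cases ?_ (fun i => ?_) j <;> simp [TensorProduct.tmul_add]
      map_smul' := fun a r => by
        ext j
        refine Fin.cases ?_ (fun i => ?_) j
        · simp [TensorProduct.tmul_smul, LinearMap.map_smul_of_tower]
        · simp only [TensorProduct.tmul_smul, LinearMap.map_smul_of_tower, Fin.cons_succ, Pi.smul_apply, RingHom.id_apply]
          rw [← algebraMap_smul K a, smul_eq_mul, map_mul, ← IsScalarTower.algebraMap_apply, ← Algebra.smul_def] }

lemma famMap_toLine (c : K ⊗[k] B) : famMap J hm ρ (toLine k K B D c) =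
    Fin.cons (ρ (retr J c)) fun i => algebraMap K D (coord J hm c i) := by
  induction c using TensorProduct.induction_on with
  | zero => ext j; refine Fin.cases ?_ (fun i => ?_) j <;> simp
  | tmul x r =>
    have h1 : famMap J hm ρ (toLine k K B D ((1 : K) ⊗ₜ r)) =
        Fin.cons (ρ (retr J ((1 : K) ⊗ₜ r))) fun i => algebraMap K D (coord J hm ((1 : K) ⊗ₜ r) i) := by
      simp [famMap, toLine]
    rw [show x ⊗ₜ[k] r = x • ((1 : K) ⊗ₜ[k] r) by rw [TensorProduct.smul_tmul', smul_eq_mul, mul_one],
      toLine_smul, map_smul, h1]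
    ext j
    refine Fin.cases ?_ (fun i => ?_) j <;>
      simp only [Pi.smul_apply, Fin.cons_zero, Fin.cons_succ, map_smul, smul_eq_mul, map_mul]
    rw [Algebra.smul_def]
  | add x y hx hy =>
    ext j; rw [map_add, map_add, hx, hy]
    refine Fin.cases ?_ (fun i => ?_) j <;> simp

lemma famMap_toLine_mem {c : K ⊗[k] B} (hc : c ∈ J) :
    famMap J hm ρ (toLine k K B D c) = Fin.cons (ρ ⟨c, hc⟩) 0 := by
  rw [famMap_toLine]
  congr 1
  · exact congrArg ρ (Subtype.ext (retr_of_mem J hc))
  · funext i; rw [coord_eq_zero J hm hc]; simp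

lemma famMap_gen (i : Fin m) :
    famMap J hm ρ (toLine k K B D (gen J hm i)) = Fin.cons 0 (Pi.single i 1) := by
  rw [famMap_toLine, retr_gen, map_zero, coord_gen]
  congr 1
  funext j
  rcases eq_or_ne j i with rfl | h
  · simp
  · simp [Pi.single_eq_of_ne h]

variable (ψ : K ⊗[k] B →ₐ[K] D) (hρ : ∀ (c : K ⊗[k] B) (j : J.restrictScalars K),
  ρ ⟨c * (j : K ⊗[k] B), J.mul_mem_left c j.2⟩ = ψ c * ρ j)

include hρ in
lemma mul_mem_ker {x : D ⊗[k] B} (hx : famMap J hm ρ x = 0) (c : K ⊗[k] B) :
    famMap J hm ρ (toLine k K B D c * x) = 0 := by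
  let incl : B →ₗ[k] D ⊗[k] B :=
    { toFun := fun r => toLine k K B D (retr J ((1 : K) ⊗ₜ r) : K ⊗[k] B)
      map_add' := fun r r' => by simp [TensorProduct.tmul_add]
      map_smul' := fun a r => by
        rw [TensorProduct.tmul_smul, ← algebraMap_smul K a, map_smul, Submodule.coe_smul, toLine_smul,
          ← IsScalarTower.algebraMap_apply, algebraMap_smul]
        rfl }
  let Pr : D ⊗[k] B →ₗ[D] D ⊗[k] B := incl.liftBaseChange D
  have hPr : ∀ c', Pr (toLine k K B D c') = toLine k K B D (retr J c' : K ⊗[k] B) := by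
    intro c'
    induction c' using TensorProduct.induction_on with
    | zero => simp
    | tmul a r =>
      have h1 : Pr (toLine k K B D ((1 : K) ⊗ₜ r)) = toLine k K B D (retr J ((1 : K) ⊗ₜ r) : K ⊗[k] B) := by
        simp [Pr, incl, toLine]
      rw [show a ⊗ₜ[k] r = a • ((1 : K) ⊗ₜ[k] r) by rw [TensorProduct.smul_tmul', smul_eq_mul, mul_one],
        toLine_smul, map_smul, h1, map_smul, Submodule.coe_smul, toLine_smul]
    | add y z hy hz => rw [map_add, map_add, hy, hz, map_add, Submodule.coe_add, map_add]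
  have hext : ∀ {M : Type u} [AddCommGroup M] [Module D M] (F G : D ⊗[k] B →ₗ[D] M),
      (∀ c', F (toLine k K B D c') = G (toLine k K B D c')) → F = G := by
    intro M _ _ F G h
    refine LinearMap.ext fun z => ?_
    induction z using TensorProduct.induction_on with
    | zero => simp
    | tmul p r =>
      rw [show p ⊗ₜ[k] r = p • toLine k K B D ((1 : K) ⊗ₜ[k] r) by simp [toLine, TensorProduct.smul_tmul'],
        map_smul, map_smul, h]
    | add y z hy hz => rw [map_add, map_add, hy, hz]
  let gens : (Fin (m + 1) → D) →ₗ[D] D ⊗[k] B :=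
    (Fintype.linearCombination D fun i => toLine k K B D (gen J hm i)) ∘ₗ LinearMap.funLeft D D Fin.succ
  have hdec : (LinearMap.id : D ⊗[k] B →ₗ[D] _) = Pr + gens ∘ₗ famMap J hm ρ := by
    refine hext _ _ fun c' => ?_
    rw [LinearMap.id_apply, LinearMap.add_apply, LinearMap.comp_apply, hPr, famMap_toLine]
    conv_lhs => rw [eq_retr_add J hm c', map_add, map_sum]
    simp [gens, Fintype.linearCombination_apply, LinearMap.funLeft, toLine_smul]
  have hscal : famMap J hm ρ ∘ₗ LinearMap.mulLeft D (toLine k K B D c) ∘ₗ Pr = ψ c • (famMap J hm ρ ∘ₗ Pr) := by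
    refine hext _ _ fun c' => ?_
    simp only [LinearMap.comp_apply, LinearMap.mulLeft_apply, LinearMap.smul_apply, hPr, ← map_mul]
    rw [famMap_toLine_mem J hm ρ (J.mul_mem_left c (retr J c').2), famMap_toLine_mem J hm ρ (retr J c').2, hρ c (retr J c')]
    ext j
    refine Fin.cases ?_ (fun i => ?_) j <;> simp
  have hxPr : Pr x = x := by
    have := LinearMap.congr_fun hdec x
    rw [LinearMap.id_apply, LinearMap.add_apply, LinearMap.comp_apply, hx, map_zero, add_zero] at this
    exact this.symm
  have := LinearMap.congr_fun hscal x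
  simp only [LinearMap.comp_apply, LinearMap.mulLeft_apply, LinearMap.smul_apply, hxPr, hx, smul_zero] at this
  exact this

/-- The ideal of a family. -/
noncomputable def famIdeal : Ideal (D ⊗[k] B) where
  toAddSubmonoid := (LinearMap.ker (famMap J hm ρ)).toAddSubmonoid
  smul_mem' a x hx := by
    show famMap J hm ρ (a * x) = 0
    have hx : famMap J hm ρ x = 0 := hx
    induction a using TensorProduct.induction_on with
    | zero => rw [zero_mul, map_zero]
    | tmul p r =>
      rw [show p ⊗ₜ[k] r = p • toLine k K B D ((1 : K) ⊗ₜ[k] r) by simp [toLine, TensorProduct.smul_tmul'],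
        smul_mul_assoc, map_smul, mul_mem_ker J hm ρ ψ hρ hx, smul_zero]
    | add y z hy hz => rw [add_mul, map_add, hy, hz, add_zero]

lemma mem_famIdeal {x : D ⊗[k] B} : x ∈ famIdeal J hm ρ ψ hρ ↔ famMap J hm ρ x = 0 := Iff.rfl

lemma famMap_surjective (hspan : Ideal.span (Set.range ρ) = ⊤) : Function.Surjective (famMap J hm ρ) := by
  classical
  rw [← LinearMap.range_eq_top, eq_top_iff]
  intro y _
  set R' := LinearMap.range (famMap J hm ρ)
  have h0 : ∀ a : D, (Fin.cons a 0 : Fin (m + 1) → D) ∈ R' := by
    intro a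
    have ha : a ∈ Ideal.span (Set.range ρ) := hspan ▸ Submodule.mem_top
    induction ha using Submodule.span_induction with
    | mem z hz => obtain ⟨j, rfl⟩ := hz; exact ⟨_, famMap_toLine_mem J hm ρ j.2⟩
    | zero =>
      convert R'.zero_mem
      exact funext (Fin.cases (by simp) (fun i => by simp))
    | add z w _ _ hz hw =>
      convert R'.add_mem hz hw
      exact funext (Fin.cases (by simp) (fun i => by simp))
    | smul p z _ hz =>
      convert R'.smul_mem p hz
      exact funext (Fin.cases (by simp) (fun i => by simp))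
  have e : y = Fin.cons (y 0) 0 + ∑ i, y (Fin.succ i) • (Fin.cons 0 (Pi.single i 1) : Fin (m + 1) → D) := by
    refine funext (Fin.cases (by simp) fun i => ?_)
    simp [Finset.sum_apply, Pi.single_apply]
  rw [e]
  exact R'.add_mem (h0 _) (R'.sum_mem fun i _ => R'.smul_mem _ ⟨_, famMap_gen J hm ρ i⟩)

theorem famIdeal_quot (hspan : Ideal.span (Set.range ρ) = ⊤) :
    Nonempty (((D ⊗[k] B) ⧸ (famIdeal J hm ρ ψ hρ).restrictScalars D) ≃ₗ[D] (Fin (m + 1) → D)) :=
  ⟨(Submodule.quotEquivOfEq _ _ (Submodule.ext fun _ => Iff.rfl)).trans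
    ((famMap J hm ρ).quotKerEquivOfSurjective (famMap_surjective J hm ρ hspan))⟩

/-- Ideals with free quotients of one rank, one inside the other, are equal. -/
theorem eq_of_le_of_quot {C : Type u} [CommRing C] [Algebra D C] {n : ℕ} {L L' : Ideal C} (h : L ≤ L')
    (e : (C ⧸ L.restrictScalars D) ≃ₗ[D] (Fin n → D)) (e' : (C ⧸ L'.restrictScalars D) ≃ₗ[D] (Fin n → D)) :
    L = L' := by
  refine le_antisymm h fun x hx => ?_
  have h' : L.restrictScalars D ≤ L'.restrictScalars D := h
  let F : (Fin n → D) →ₗ[D] (Fin n → D) := e'.toLinearMap ∘ₗ Submodule.factor h' ∘ₗ e.symm.toLinearMap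
  have hsurj : Function.Surjective F :=
    e'.surjective.comp ((Submodule.factor_surjective h').comp e.symm.surjective)
  have hF := OrzechProperty.injective_of_surjective_endomorphism F hsurj
  have h0 : F (e (Submodule.Quotient.mk x)) = F 0 := by
    simp only [F, LinearMap.comp_apply, LinearEquiv.coe_coe, LinearEquiv.symm_apply_apply, map_zero]
    rw [show Submodule.factor h' (Submodule.Quotient.mk x) = 0 from (Submodule.Quotient.mk_eq_zero _).mpr hx, map_zero]
  exact (Submodule.Quotient.mk_eq_zero _).mp (e.map_eq_zero_iff.mp (hF h0))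

end Groth.Agent.HilbConn2Lib
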