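import Groth.Agent.HilbConn2Lib.Family

/-! The ideals of families are natural. -/

set_option autoImplicit false
set_option backward.isDefEq.respectTransparency false
set_option backward.isDefEq.respectTransparency.types false
set_option linter.style.haveILetI false
set_option maxHeartbeats 1000000
set_option synthInstance.maxHeartbeats 100000

universe u

open TensorProduct Module

namespace Groth.Agent.HilbConn2Lib

open HilbConnLib

variable {k K B D D' : Type u} [Field k] [Field K] [Algebra k K] [CommRing B] [Algebra k B]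
  [CommRing D] [Algebra K D] [Algebra k D] [IsScalarTower k K D]
  [CommRing D'] [Algebra K D'] [Algebra k D'] [IsScalarTower k K D']
  (J : Ideal (K ⊗[k] B)) {m : ℕ} [Module.Finite K ((K ⊗[k] B) ⧸ J.restrictScalars K)]
  (hm : finrank K ((K ⊗[k] B) ⧸ J.restrictScalars K) = m)

/-- Change of the base of a family. -/
noncomputable def gMap (u : D →ₐ[K] D') : D ⊗[k] B →+* D' ⊗[k] B :=
  (Algebra.TensorProduct.map (u.restrictScalars k) (AlgHom.id k B)).toRingHom

omit [Module.Finite K ((K ⊗[k] B) ⧸ J.restrictScalars K)] in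
lemma gMap_smul (u : D →ₐ[K] D') (p : D) (x : D ⊗[k] B) : gMap u (p • x) = u p • gMap u x := by
  induction x using TensorProduct.induction_on with
  | zero => simp
  | tmul q r => simp [gMap, TensorProduct.smul_tmul']
  | add y z hy hz => rw [smul_add, map_add, hy, hz, map_add, smul_add]

lemma gMap_toLine (u : D →ₐ[K] D') (c : K ⊗[k] B) : gMap u (toLine k K B D c) = toLine k K B D' c := by
  induction c using TensorProduct.induction_on with
  | zero => simp
  | tmul x r => simp [gMap, toLine]
  | add x y hx hy => rw [map_add, map_add, hx, hy, map_add]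

lemma famMap_gMap (u : D →ₐ[K] D') (ρ : J.restrictScalars K →ₗ[K] D) (x : D ⊗[k] B) (i : Fin (m + 1)) :
    famMap J hm (u.toLinearMap ∘ₗ ρ) (gMap u x) i = u (famMap J hm ρ x i) := by
  induction x using TensorProduct.induction_on with
  | zero => simp
  | tmul p r =>
    rw [show p ⊗ₜ[k] r = p • toLine k K B D ((1 : K) ⊗ₜ[k] r) by simp [toLine, TensorProduct.smul_tmul'],
      gMap_smul, gMap_toLine, map_smul, map_smul, famMap_toLine, famMap_toLine]
    refine Fin.cases ?_ (fun j => ?_) i <;> simp
  | add y z hy hz => simp [map_add, hy, hz]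

/-- The ideal of a family after a base change. -/
theorem map_famIdeal (u : D →ₐ[K] D') (ρ : J.restrictScalars K →ₗ[K] D) (ψ : K ⊗[k] B →ₐ[K] D)
    (hρ : ∀ (c : K ⊗[k] B) (j : J.restrictScalars K), ρ ⟨c * (j : K ⊗[k] B), J.mul_mem_left c j.2⟩ = ψ c * ρ j)
    (ρ' : J.restrictScalars K →ₗ[K] D') (ψ' : K ⊗[k] B →ₐ[K] D')
    (hρ' : ∀ (c : K ⊗[k] B) (j : J.restrictScalars K), ρ' ⟨c * (j : K ⊗[k] B), J.mul_mem_left c j.2⟩ = ψ' c * ρ' j)
    (hu : ρ' = u.toLinearMap ∘ₗ ρ) (hspan : Ideal.span (Set.range ρ) = ⊤) :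
    (famIdeal J hm ρ ψ hρ).map (gMap u) = famIdeal J hm ρ' ψ' hρ' := by
  classical
  refine le_antisymm (Ideal.map_le_iff_le_comap.mpr fun x hx => ?_) fun y hy => ?_
  · rw [Ideal.mem_comap, mem_famIdeal, hu]
    funext i
    rw [famMap_gMap, (mem_famIdeal J hm ρ ψ hρ).mp hx]
    simp
  choose e he using fun i : Fin (m + 1) => famMap_surjective J hm ρ hspan (Pi.single i (1 : D))
  let σ : (Fin (m + 1) → D) →ₗ[D] D ⊗[k] B := Fintype.linearCombination D e
  let σ' : (Fin (m + 1) → D') →ₗ[D'] D' ⊗[k] B := Fintype.linearCombination D' fun i => gMap u (e i)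
  have hσ : ∀ v, famMap J hm ρ (σ v) = v := fun v => by
    simp only [σ, Fintype.linearCombination_apply, map_sum, map_smul, he]
    funext i
    simp [Finset.sum_apply, Pi.single_apply]
  have key : ∀ z : D' ⊗[k] B, z - σ' (famMap J hm ρ' z) ∈ (famIdeal J hm ρ ψ hρ).map (gMap u) := by
    intro z
    induction z using TensorProduct.induction_on with
    | zero => rw [map_zero, map_zero, sub_zero]; exact zero_mem _
    | tmul p r =>
      let x := toLine k K B D ((1 : K) ⊗ₜ[k] r)
      have h1 : x - σ (famMap J hm ρ x) ∈ famIdeal J hm ρ ψ hρ := by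
        rw [mem_famIdeal, map_sub, hσ, sub_self]
      have h2 : gMap u (σ (famMap J hm ρ x)) = σ' (famMap J hm ρ' (gMap u x)) := by
        simp only [σ, σ', Fintype.linearCombination_apply, map_sum, gMap_smul]
        refine Finset.sum_congr rfl fun i _ => ?_
        rw [hu, famMap_gMap]
      have h3 : p ⊗ₜ[k] r = p • gMap u x := by
        simp only [x, gMap_toLine]
        simp [toLine, TensorProduct.smul_tmul']
      rw [h3, map_smul, map_smul, ← smul_sub, ← h2, ← map_sub, Algebra.smul_def]
      exact Ideal.mul_mem_left _ _ (Ideal.mem_map_of_mem _ h1)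
    | add y z hy hz =>
      rw [map_add, map_add, add_sub_add_comm]
      exact add_mem hy hz
  have := key y
  rwa [(mem_famIdeal J hm ρ' ψ' hρ').mp hy, map_zero, sub_zero] at this

end Groth.Agent.HilbConn2Lib
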