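import Groth.Agent.HilbConn2Lib.Functor
import Groth.Agent.DomDVR.Dominate

/-! Points of the Hilbert scheme of an affine scheme given by families. -/

set_option autoImplicit false
set_option backward.isDefEq.respectTransparency false
set_option backward.isDefEq.respectTransparency.types false
set_option linter.style.haveILetI false
set_option maxHeartbeats 1000000
set_option synthInstance.maxHeartbeats 100000

universe u

open CategoryTheory AlgebraicGeometry TensorProduct Module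

namespace Groth.Agent.HilbConn2Lib

open HilbRepLib HilbDescLib HilbConnLib

variable {k B : Type u} [Field k] [CommRing B] [Algebra k B] {n : ℕ}
  {H : Over (Spec (CommRingCat.of k))} (Z : HilbD.Obj (str k B) n H)

/-- The ideal of a point. -/
noncomputable def idl {A : CommAlgCat.{u} k} (p : test A ⟶ H) : Ideal ((A : Type u) ⊗[k] B) :=
  idealOf ⟨HilbD.pull (str k B) p Z.1, HilbCurveLib.pull_deg (str k B) p Z.2⟩

/-- The morphism of test objects of an algebra map. -/
noncomputable def tm {A A' : Type u} [CommRing A] [Algebra k A] [CommRing A'] [Algebra k A'] (u : A →ₐ[k] A') :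
    test (CommAlgCat.of k A') ⟶ test (CommAlgCat.of k A) :=
  Over.homMk (Spec.map (CommRingCat.ofHom u.toRingHom)) (by
    show Spec.map _ ≫ Spec.map _ = Spec.map _
    rw [← Spec.map_comp, ← CommRingCat.ofHom_comp]
    congr 2
    exact u.comp_algebraMap)

lemma testHom_tm {A A' : Type u} [CommRing A] [Algebra k A] [CommRing A'] [Algebra k A'] (u : A →ₐ[k] A') :
    (testHom (tm u)).hom = u :=
  AlgHom.ext fun x => (congrArg (fun f : CommRingCat.of A ⟶ CommRingCat.of A' => f.hom x)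
    (Spec.map_injective (testHom_left (tm u)))).symm

lemma idl_tm {A A' : Type u} [CommRing A] [Algebra k A] [CommRing A'] [Algebra k A'] (u : A →ₐ[k] A')
    (p : test (CommAlgCat.of k A) ⟶ H) :
    idl Z (tm u ≫ p) = (idl Z p).map (Algebra.TensorProduct.map u (AlgHom.id k B)).toRingHom := by
  rw [idl, idealOf_pull (tm u) ⟨HilbD.pull (str k B) p Z.1, HilbCurveLib.pull_deg (str k B) p Z.2⟩ _
    (HilbCurveLib.pull_comp (str k B) p (tm u) Z.1), testHom_tm]
  rfl

/-- The image in the Hilbert scheme of the points with a given ideal. -/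
def Img (A : Type u) [CommRing A] [Algebra k A] (L : Ideal (A ⊗[k] B)) : Set ↥H.left :=
  {h | ∃ p : test (CommAlgCat.of k A) ⟶ H, idl Z p = L ∧ ∃ z, h = p.left z}

variable (hH : HilbD.IsUniversal (str k B) n H Z)

include hH

lemma idl_inj {A : CommAlgCat.{u} k} {p q : test A ⟶ H} (h : idl Z p = idl Z q) : p = q :=
  (hH (test A) ⟨HilbD.pull (str k B) q Z.1, HilbCurveLib.pull_deg (str k B) q Z.2⟩).unique
    (congrArg Subtype.val (grOf_injective (Grassmannian.ext (congrArg (Submodule.restrictScalars A) h)))) rfl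

lemma exists_point (A : Type u) [CommRing A] [Algebra k A] (L : Ideal (A ⊗[k] B))
    (hL : Nonempty (((A ⊗[k] B) ⧸ L.restrictScalars A) ≃ₗ[A] (Fin n → A))) :
    ∃ p : test (CommAlgCat.of k A) ⟶ H, idl Z p = L := by
  obtain ⟨e⟩ := hL
  rcases subsingleton_or_nontrivial A with hA | hA
  · haveI : Subsingleton (A ⊗[k] B) := Module.subsingleton A _
    let N : Grassmannian A (A ⊗[k] B) n :=
      { toSubmodule := L.restrictScalars A
        finite_quotient := Module.Finite.equiv e.symm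
        projective_quotient := Module.Projective.of_equiv e.symm
        rankAtStalk_eq := fun p => ((not_nontrivial A) p.nontrivial).elim }
    obtain ⟨W, hW⟩ := exists_grOf (R := k) (B := B) (A := CommAlgCat.of k A) (N := N) (fun b _ hx => Ideal.mul_mem_left L _ hx)
    obtain ⟨p, hp, -⟩ := hH _ W
    exact ⟨p, Ideal.ext fun x => by rw [Subsingleton.elim x 0]; simp⟩
  let N : Grassmannian A (A ⊗[k] B) n :=
    { toSubmodule := L.restrictScalars A
      finite_quotient := Module.Finite.equiv e.symm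
      projective_quotient := Module.Projective.of_equiv e.symm
      rankAtStalk_eq := fun p => by
        rw [Module.rankAtStalk_eq_of_equiv e, Module.rankAtStalk_eq_finrank_of_free, Pi.natCast_def]
        simp }
  obtain ⟨W, hW⟩ := exists_grOf (R := k) (B := B) (A := CommAlgCat.of k A) (N := N) (fun b _ hx => Ideal.mul_mem_left L _ hx)
  obtain ⟨p, hp, -⟩ := hH _ W
  refine ⟨p, ?_⟩
  rw [idl, show (⟨HilbD.pull (str k B) p Z.1, HilbCurveLib.pull_deg (str k B) p Z.2⟩ :
    HilbD.Obj (str k B) n (test (CommAlgCat.of k A))) = W from Subtype.ext hp]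
  exact Submodule.restrictScalars_injective A _ _ (congrArg Grassmannian.toSubmodule hW)

lemma img_nonempty (A : Type u) [CommRing A] [Nontrivial A] [Algebra k A] (L : Ideal (A ⊗[k] B))
    (hL : Nonempty (((A ⊗[k] B) ⧸ L.restrictScalars A) ≃ₗ[A] (Fin n → A))) : (Img Z A L).Nonempty := by
  obtain ⟨p, hp⟩ := exists_point Z hH A L hL
  obtain ⟨z⟩ : Nonempty (PrimeSpectrum A) := inferInstance
  exact ⟨_, p, hp, z, rfl⟩

lemma img_map {A A' : Type u} [CommRing A] [Algebra k A] [CommRing A'] [Algebra k A'] (u : A →ₐ[k] A')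
    (L : Ideal (A ⊗[k] B)) (L' : Ideal (A' ⊗[k] B))
    (hL : Nonempty (((A ⊗[k] B) ⧸ L.restrictScalars A) ≃ₗ[A] (Fin n → A)))
    (h : L.map (Algebra.TensorProduct.map u (AlgHom.id k B)).toRingHom = L') : Img Z A' L' ⊆ Img Z A L := by
  rintro _ ⟨q, hq, z, rfl⟩
  obtain ⟨p, hp⟩ := exists_point Z hH A L hL
  refine ⟨p, hp, (tm u).left z, ?_⟩
  rw [idl_inj Z hH (p := q) (q := tm u ≫ p) (by rw [hq, idl_tm, hp, h])]
  rfl

lemma img_preconnected (A : Type u) [CommRing A] [Algebra k A] [PreconnectedSpace (PrimeSpectrum A)]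
    (L : Ideal (A ⊗[k] B)) : _root_.IsPreconnected (Img Z A L) := by
  by_cases h : ∃ p : test (CommAlgCat.of k A) ⟶ H, idl Z p = L
  · obtain ⟨p, hp⟩ := h
    have e : Img Z A L = Set.range p.left.base := by
      ext x
      constructor
      · rintro ⟨q, hq, z, rfl⟩
        rw [idl_inj Z hH (hq.trans hp.symm)]
        exact ⟨z, rfl⟩
      · rintro ⟨z, rfl⟩
        exact ⟨p, hp, z, rfl⟩
    rw [e]
    haveI : PreconnectedSpace ↥(test (CommAlgCat.of k A)).left := ‹PreconnectedSpace (PrimeSpectrum A)›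
    exact isPreconnected_range p.left.continuous
  · rw [show Img Z A L = ∅ from Set.eq_empty_of_forall_notMem fun x ⟨q, hq, _⟩ => h ⟨q, hq⟩]
    exact isPreconnected_empty

omit hH

section families

variable {K : Type u} [Field K] [Algebra k K]

/-- A point of a family over a field. -/
structure Dat (J : Ideal (K ⊗[k] B)) where
  /-- the field -/
  F : Type u
  [fld : Field F]
  [algK : Algebra K F]
  [algk : Algebra k F]
  [twr : IsScalarTower k K F]
  /-- the position of the moving point -/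
  ψ : K ⊗[k] B →ₐ[K] F
  /-- the quotient of the ideal -/
  ρ : J.restrictScalars K →ₗ[K] F
  hρ : ∀ (c : K ⊗[k] B) (j : J.restrictScalars K), ρ ⟨c * (j : K ⊗[k] B), J.mul_mem_left c j.2⟩ = ψ c * ρ j
  hspan : Ideal.span (Set.range ρ) = ⊤

attribute [instance] Dat.fld Dat.algK Dat.algk Dat.twr

variable (J : Ideal (K ⊗[k] B)) {m : ℕ} [Module.Finite K ((K ⊗[k] B) ⧸ J.restrictScalars K)]
  (hm : finrank K ((K ⊗[k] B) ⧸ J.restrictScalars K) = m) (hn : n = m + 1)

/-- The image of a family. -/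
noncomputable def famImg {D : Type u} [CommRing D] [Algebra K D] [Algebra k D] [IsScalarTower k K D]
    (ρ : J.restrictScalars K →ₗ[K] D) (ψ : K ⊗[k] B →ₐ[K] D)
    (hρ : ∀ (c : K ⊗[k] B) (j : J.restrictScalars K), ρ ⟨c * (j : K ⊗[k] B), J.mul_mem_left c j.2⟩ = ψ c * ρ j) :
    Set ↥H.left :=
  Img Z D (famIdeal J hm ρ ψ hρ)

/-- The image of a point. -/
noncomputable def datImg (d : Dat J) : Set ↥H.left := famImg Z J hm d.ρ d.ψ d.hρ

include hH hn

lemma datImg_nonempty (d : Dat J) : (datImg Z J hm d).Nonempty :=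
  img_nonempty Z hH _ _ (hn ▸ famIdeal_quot J hm d.ρ d.ψ d.hρ d.hspan)

lemma famImg_map {D D' : Type u} [CommRing D] [Algebra K D] [Algebra k D] [IsScalarTower k K D]
    [CommRing D'] [Algebra K D'] [Algebra k D'] [IsScalarTower k K D'] (u : D →ₐ[K] D')
    (ρ : J.restrictScalars K →ₗ[K] D) (ψ : K ⊗[k] B →ₐ[K] D)
    (hρ : ∀ (c : K ⊗[k] B) (j : J.restrictScalars K), ρ ⟨c * (j : K ⊗[k] B), J.mul_mem_left c j.2⟩ = ψ c * ρ j)
    (hspan : Ideal.span (Set.range ρ) = ⊤)
    (ρ' : J.restrictScalars K →ₗ[K] D') (ψ' : K ⊗[k] B →ₐ[K] D')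
    (hρ' : ∀ (c : K ⊗[k] B) (j : J.restrictScalars K), ρ' ⟨c * (j : K ⊗[k] B), J.mul_mem_left c j.2⟩ = ψ' c * ρ' j)
    (hu : ρ' = u.toLinearMap ∘ₗ ρ) : famImg Z J hm ρ' ψ' hρ' ⊆ famImg Z J hm ρ ψ hρ :=
  img_map Z hH (u.restrictScalars k) _ _ (hn ▸ famIdeal_quot J hm ρ ψ hρ hspan)
    (map_famIdeal J hm u ρ ψ hρ ρ' ψ' hρ' hu hspan)

omit hH hn

/-- Two points are linked: their images lie in one connected component. -/
def Linked (d d' : Dat J) : Prop := ∀ x ∈ datImg Z J hm d, ∀ y ∈ datImg Z J hm d', y ∈ connectedComponent x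

lemma linked_symm {d d' : Dat J} (h : Linked Z J hm d d') : Linked Z J hm d' d := fun y hy x hx => by
  rw [← connectedComponent_eq (h x hx y hy)]
  exact mem_connectedComponent

include hH hn

lemma linked_trans {d d' d'' : Dat J} (h : Linked Z J hm d d') (h' : Linked Z J hm d' d'') :
    Linked Z J hm d d'' := fun x hx y hy => by
  obtain ⟨w, hw⟩ := datImg_nonempty Z hH J hm hn d'
  rw [connectedComponent_eq (h x hx w hw)]
  exact h' w hw y hy

lemma linked_map (d d' : Dat J) (u : d.F →ₐ[K] d'.F) (hu : d'.ρ = u.toLinearMap ∘ₗ d.ρ) :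
    Linked Z J hm d d' := fun x hx y hy => by
  haveI : PreconnectedSpace (PrimeSpectrum d.F) := ⟨Set.subsingleton_univ.isPreconnected⟩
  exact (img_preconnected Z hH d.F _).subset_connectedComponent hx
    (famImg_map Z hH J hm hn u d.ρ d.ψ d.hρ d.hspan d'.ρ d'.ψ d'.hρ hu hy)

lemma linked_of_family {D : Type u} [CommRing D] [PreconnectedSpace (PrimeSpectrum D)] [Algebra K D] [Algebra k D]
    [IsScalarTower k K D] (ρ : J.restrictScalars K →ₗ[K] D) (ψ : K ⊗[k] B →ₐ[K] D)
    (hρ : ∀ (c : K ⊗[k] B) (j : J.restrictScalars K), ρ ⟨c * (j : K ⊗[k] B), J.mul_mem_left c j.2⟩ = ψ c * ρ j)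
    (hspan : Ideal.span (Set.range ρ) = ⊤) (d d' : Dat J)
    (u : D →ₐ[K] d.F) (hu : d.ρ = u.toLinearMap ∘ₗ ρ) (u' : D →ₐ[K] d'.F) (hu' : d'.ρ = u'.toLinearMap ∘ₗ ρ) :
    Linked Z J hm d d' := fun x hx y hy =>
  (img_preconnected Z hH D _).subset_connectedComponent
    (famImg_map Z hH J hm hn u ρ ψ hρ hspan d.ρ d.ψ d.hρ hu hx)
    (famImg_map Z hH J hm hn u' ρ ψ hρ hspan d'.ρ d'.ψ d'.hρ hu' hy)

omit hH hn

/-- The push of a point to a larger field. -/
noncomputable def Dat.push (d : Dat J) {E : Type u} [Field E] [Algebra K E] [Algebra k E] [IsScalarTower k K E]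
    (u : d.F →ₐ[K] E) : Dat J where
  F := E
  ψ := u.comp d.ψ
  ρ := u.toLinearMap ∘ₗ d.ρ
  hρ c j := by simp [d.hρ c j]
  hspan := by
    have h := congrArg (Ideal.map u.toRingHom) d.hspan
    rw [Ideal.map_span, Ideal.map_top, ← Set.range_comp] at h
    exact h

include hH hn

lemma linked_same_ker_same_field {E : Type u} [Field E] [Algebra K E] [Algebra k E] [IsScalarTower k K E]
    (ψ : K ⊗[k] B →ₐ[K] E) (ρ₁ ρ₂ : J.restrictScalars K →ₗ[K] E)
    (h₁ : ∀ (c : K ⊗[k] B) (j : J.restrictScalars K), ρ₁ ⟨c * (j : K ⊗[k] B), J.mul_mem_left c j.2⟩ = ψ c * ρ₁ j)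
    (h₂ : ∀ (c : K ⊗[k] B) (j : J.restrictScalars K), ρ₂ ⟨c * (j : K ⊗[k] B), J.mul_mem_left c j.2⟩ = ψ c * ρ₂ j)
    (s₁ : Ideal.span (Set.range ρ₁) = ⊤) (s₂ : Ideal.span (Set.range ρ₂) = ⊤) :
    Linked Z J hm ⟨E, ψ, ρ₁, h₁, s₁⟩ ⟨E, ψ, ρ₂, h₂, s₂⟩ := by
  haveI hpc : PreconnectedSpace (PrimeSpectrum E) := ⟨Set.subsingleton_univ.isPreconnected⟩
  by_cases hdet : ∀ j j', ρ₁ j * ρ₂ j' = ρ₁ j' * ρ₂ j
  · -- proportional functionals give one ideal
    obtain ⟨j0, hj0⟩ : ∃ j0, ρ₂ j0 ≠ 0 := by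
      by_contra h
      push_neg at h
      rw [show Set.range ρ₂ = {0} from Set.eq_singleton_iff_unique_mem.mpr ⟨⟨0, map_zero _⟩, by rintro _ ⟨j, rfl⟩; exact h j⟩,
        Ideal.span_singleton_eq_top] at s₂
      exact not_isUnit_zero s₂
    have hc : ∀ j, ρ₁ j = ρ₁ j0 / ρ₂ j0 * ρ₂ j := fun j => by
      rw [div_mul_eq_mul_div, eq_div_iff hj0, hdet j j0]
    obtain ⟨e₁⟩ := famIdeal_quot J hm ρ₁ ψ h₁ s₁
    obtain ⟨e₂⟩ := famIdeal_quot J hm ρ₂ ψ h₂ s₂
    have hmap : ∀ x, famMap J hm ρ₁ x 0 = ρ₁ j0 / ρ₂ j0 * famMap J hm ρ₂ x 0 ∧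
        ∀ i : Fin m, famMap J hm ρ₁ x i.succ = famMap J hm ρ₂ x i.succ := by
      intro x
      induction x using TensorProduct.induction_on with
      | zero => simp
      | tmul p r =>
        rw [show p ⊗ₜ[k] r = p • toLine k K B E ((1 : K) ⊗ₜ[k] r) by simp [toLine, TensorProduct.smul_tmul'],
          map_smul, map_smul, famMap_toLine, famMap_toLine]
        refine ⟨?_, fun i => by simp⟩
        simp only [Pi.smul_apply, Fin.cons_zero, smul_eq_mul]
        rw [hc]; ring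
      | add y z hy hz =>
        refine ⟨?_, fun i => ?_⟩
        · simp only [map_add, Pi.add_apply, hy.1, hz.1]; ring
        · simp only [map_add, Pi.add_apply, hy.2 i, hz.2 i]
    have hle : famIdeal J hm ρ₂ ψ h₂ ≤ famIdeal J hm ρ₁ ψ h₁ := fun x hx => by
      rw [mem_famIdeal] at hx ⊢
      funext i
      refine Fin.cases ?_ (fun i => ?_) i
      · rw [(hmap x).1, hx, Pi.zero_apply, mul_zero]
      · rw [(hmap x).2, hx]
    intro x hx y hy
    have hx' : x ∈ Img Z E (famIdeal J hm ρ₂ ψ h₂) := (eq_of_le_of_quot hle e₂ e₁).symm ▸ hx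
    exact (img_preconnected Z hH E _).subset_connectedComponent hx' hy
  · push_neg at hdet
    obtain ⟨j, j', hd⟩ := hdet
    have hd' : ρ₁ j * ρ₂ j' - ρ₁ j' * ρ₂ j ≠ 0 := sub_ne_zero.mpr hd
    let ι₀ : E →ₐ[K] Polynomial E := (Algebra.ofId E (Polynomial E)).restrictScalars K
    let ρ : J.restrictScalars K →ₗ[K] Polynomial E :=
      LinearMap.mulLeft K (1 - Polynomial.X) ∘ₗ ι₀.toLinearMap ∘ₗ ρ₁ + LinearMap.mulLeft K Polynomial.X ∘ₗ ι₀.toLinearMap ∘ₗ ρ₂
    have hρ : ∀ (c : K ⊗[k] B) (j : J.restrictScalars K),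
        ρ ⟨c * (j : K ⊗[k] B), J.mul_mem_left c j.2⟩ = (ι₀.comp ψ) c * ρ j := fun c j => by
      simp [ρ, h₁ c j, h₂ c j]; ring
    have hspan : Ideal.span (Set.range ρ) = ⊤ := by
      rw [Ideal.eq_top_iff_one]
      let a := (ρ₂ j' - ρ₁ j') / (ρ₁ j * ρ₂ j' - ρ₁ j' * ρ₂ j)
      let b := (ρ₁ j - ρ₂ j) / (ρ₁ j * ρ₂ j' - ρ₁ j' * ρ₂ j)
      have ha : a * ρ₁ j + b * ρ₁ j' = 1 := by
        simp only [a, b]; rw [div_mul_eq_mul_div, div_mul_eq_mul_div, ← add_div, div_eq_one_iff_eq hd']; ring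
      have hb : a * ρ₂ j + b * ρ₂ j' = 1 := by
        simp only [a, b]; rw [div_mul_eq_mul_div, div_mul_eq_mul_div, ← add_div, div_eq_one_iff_eq hd']; ring
      have h : ι₀ a * ρ j + ι₀ b * ρ j' ∈ Ideal.span (Set.range ρ) :=
        Ideal.add_mem _ (Ideal.mul_mem_left _ _ (Ideal.subset_span ⟨j, rfl⟩))
          (Ideal.mul_mem_left _ _ (Ideal.subset_span ⟨j', rfl⟩))
      have e : ι₀ a * ρ j + ι₀ b * ρ j' =
          (1 - Polynomial.X) * ι₀ (a * ρ₁ j + b * ρ₁ j') + Polynomial.X * ι₀ (a * ρ₂ j + b * ρ₂ j') := by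
        simp [ρ]; ring
      rw [e, ha, hb, map_one, mul_one, mul_one, sub_add_cancel] at h
      exact h
    refine linked_of_family Z hH J hm hn ρ (ι₀.comp ψ) hρ hspan _ _
      ((Polynomial.aeval (0 : E)).restrictScalars K) ?_ ((Polynomial.aeval (1 : E)).restrictScalars K) ?_
    · refine LinearMap.ext fun j => ?_
      simp [ρ, ι₀]
    · refine LinearMap.ext fun j => ?_
      simp [ρ, ι₀]

theorem linked_same_ker (d d' : Dat J) (h : RingHom.ker d.ψ = RingHom.ker d'.ψ) : Linked Z J hm d d' := by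
  classical
  let p : Ideal (K ⊗[k] B) := RingHom.ker d.ψ
  haveI : p.IsPrime := RingHom.ker_isPrime _
  have hunit : ∀ {F : Type u} [Field F] [Algebra K F] (χ : K ⊗[k] B →ₐ[K] F), RingHom.ker χ = p →
      ∀ c ∈ p.primeCompl, IsUnit (χ c) := fun χ hχ c hc =>
    isUnit_iff_ne_zero.mpr fun h0 => hc (hχ ▸ (RingHom.mem_ker.mpr h0))
  let f₁ : p.ResidueField →ₐ[K] d.F := Ideal.ResidueField.liftₐ p d.ψ le_rfl (fun c hc => hunit d.ψ rfl c hc)
  let f₂ : p.ResidueField →ₐ[K] d'.F := Ideal.ResidueField.liftₐ p d'.ψ h.le (fun c hc => hunit d'.ψ h.symm c hc)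
  letI := f₁.toRingHom.toAlgebra
  letI := f₂.toRingHom.toAlgebra
  haveI : IsScalarTower K p.ResidueField d.F := .of_algebraMap_eq fun x => (f₁.commutes x).symm
  haveI : IsScalarTower K p.ResidueField d'.F := .of_algebraMap_eq fun x => (f₂.commutes x).symm
  haveI : Nontrivial (d.F ⊗[p.ResidueField] d'.F) :=
    (Algebra.TensorProduct.includeLeft_injective (S := p.ResidueField) (algebraMap p.ResidueField d'.F).injective).nontrivial
  obtain ⟨M, hM⟩ := Ideal.exists_maximal (d.F ⊗[p.ResidueField] d'.F)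
  let E := (d.F ⊗[p.ResidueField] d'.F) ⧸ M
  letI : Field E := Ideal.Quotient.field M
  haveI : IsScalarTower k K E := .of_algebraMap_eq fun x => by
    show Ideal.Quotient.mk M (algebraMap k d.F x ⊗ₜ 1) = Ideal.Quotient.mk M (algebraMap K d.F (algebraMap k K x) ⊗ₜ 1)
    rw [← IsScalarTower.algebraMap_apply k K d.F]
  let g₁ : d.F →ₐ[p.ResidueField] E := (Ideal.Quotient.mkₐ _ M).comp Algebra.TensorProduct.includeLeft
  let g₂ : d'.F →ₐ[p.ResidueField] E := (Ideal.Quotient.mkₐ _ M).comp Algebra.TensorProduct.includeRight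
  haveI : IsScalarTower K p.ResidueField E := .of_algebraMap_eq fun x => by
    show Ideal.Quotient.mk M (algebraMap K d.F x ⊗ₜ 1) = Ideal.Quotient.mk M (algebraMap p.ResidueField d.F (algebraMap K p.ResidueField x) ⊗ₜ 1)
    rw [← IsScalarTower.algebraMap_apply K p.ResidueField d.F]
  let v₁ : d.F →ₐ[K] E := g₁.restrictScalars K
  let v₂ : d'.F →ₐ[K] E := g₂.restrictScalars K
  have hψ : v₁.comp d.ψ = v₂.comp d'.ψ := by
    refine AlgHom.ext fun c => ?_
    show g₁ (d.ψ c) = g₂ (d'.ψ c)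
    have e1 : d.ψ c = algebraMap p.ResidueField d.F (algebraMap _ p.ResidueField c) :=
      (Ideal.ResidueField.liftₐ_algebraMap p d.ψ le_rfl (fun c hc => hunit d.ψ rfl c hc) c).symm
    have e2 : d'.ψ c = algebraMap p.ResidueField d'.F (algebraMap _ p.ResidueField c) :=
      (Ideal.ResidueField.liftₐ_algebraMap p d'.ψ h.le (fun c hc => hunit d'.ψ h.symm c hc) c).symm
    rw [e1, e2, g₁.commutes, g₂.commutes]
  refine linked_trans Z hH J hm hn (linked_map Z hH J hm hn d (d.push J v₁) v₁ rfl)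
    (linked_trans Z hH J hm hn ?_ (linked_symm Z J hm (linked_map Z hH J hm hn d' (d'.push J v₂) v₂ rfl)))
  exact linked_same_ker_same_field Z hH J hm hn (v₁.comp d.ψ) _ (v₂.toLinearMap ∘ₗ d'.ρ) (d.push J v₁).hρ
    (by rw [hψ]; exact (d'.push J v₂).hρ) (d.push J v₁).hspan (d'.push J v₂).hspan

theorem exists_linked_specialization [Algebra.FiniteType k B] (q p : Ideal (K ⊗[k] B)) [q.IsPrime] [p.IsPrime] (hqp : q < p)
    (hJq : ¬ J ≤ q) :
    ∃ d d' : Dat J, RingHom.ker d.ψ = q ∧ RingHom.ker d'.ψ = p ∧ Linked Z J hm d d' := by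
  classical
  haveI : IsNoetherianRing (K ⊗[k] B) := Algebra.FiniteType.isNoetherianRing K _
  obtain ⟨R, _, _, _, f, hker, hcomap⟩ := DomDVR.exists_dvr_specialization q p hqp
  letI : Algebra K R := (f.comp (algebraMap K (K ⊗[k] B))).toAlgebra
  letI : Algebra k R := ((algebraMap K R).comp (algebraMap k K)).toAlgebra
  haveI : IsScalarTower k K R := .of_algebraMap_eq fun _ => rfl
  let ψ : K ⊗[k] B →ₐ[K] R := { f with commutes' := fun _ => rfl }
  obtain ⟨g, hg⟩ := (IsPrincipalIdealRing.principal (J.map f)).principal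
  change J.map f = Ideal.span {g} at hg
  have hg0 : g ≠ 0 := by
    rintro rfl
    refine hJq fun j hj => hker ▸ (RingHom.mem_ker.mpr ?_)
    have := Ideal.mem_map_of_mem f hj
    rw [hg, Ideal.mem_span_singleton] at this
    exact zero_dvd_iff.mp this
  have hdiv : ∀ j : J.restrictScalars K, ∃ r, r * g = f j := fun j =>
    Ideal.mem_span_singleton'.mp (hg ▸ Ideal.mem_map_of_mem f j.2)
  choose r hr using hdiv
  let ρ : J.restrictScalars K →ₗ[K] R :=
    { toFun := r
      map_add' := fun j j' => mul_right_cancel₀ hg0 (by rw [add_mul, hr, hr, hr, Submodule.coe_add, map_add])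
      map_smul' := fun a j => mul_right_cancel₀ hg0 (by
        rw [RingHom.id_apply, smul_mul_assoc, hr, hr, Submodule.coe_smul, Algebra.smul_def, Algebra.smul_def, map_mul]
        rfl) }
  have hρ : ∀ (c : K ⊗[k] B) (j : J.restrictScalars K), ρ ⟨c * (j : K ⊗[k] B), J.mul_mem_left c j.2⟩ = ψ c * ρ j :=
    fun c j => mul_right_cancel₀ hg0 (by
      show r _ * g = f c * r j * g
      rw [hr, mul_assoc, hr, map_mul])
  have hspan : Ideal.span (Set.range ρ) = ⊤ := by
    rw [Ideal.eq_top_iff_one]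
    have hle : J.map f ≤ Ideal.span (Set.range ρ) * Ideal.span {g} := Ideal.map_le_iff_le_comap.mpr fun j hj => by
      rw [Ideal.mem_comap, ← hr ⟨j, hj⟩]
      exact Ideal.mul_mem_mul (Ideal.subset_span ⟨⟨j, hj⟩, rfl⟩) (Ideal.mem_span_singleton_self g)
    obtain ⟨z, hz, hzg⟩ := Ideal.mem_mul_span_singleton.mp (hle (hg.symm ▸ Ideal.mem_span_singleton_self g))
    rwa [show z = 1 from mul_right_cancel₀ hg0 (hzg.trans (one_mul g).symm)] at hz
  let uη : R →ₐ[K] FractionRing R := IsScalarTower.toAlgHom K R (FractionRing R)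
  let us : R →ₐ[K] IsLocalRing.ResidueField R := IsScalarTower.toAlgHom K R (IsLocalRing.ResidueField R)
  have hpush : ∀ {F : Type u} [Field F] [Algebra K F] (u : R →ₐ[K] F),
      Ideal.span (Set.range (u.toLinearMap ∘ₗ ρ)) = ⊤ := fun u => by
    have h := congrArg (Ideal.map u.toRingHom) hspan
    rw [Ideal.map_span, Ideal.map_top, ← Set.range_comp] at h
    exact h
  let d : Dat J := ⟨FractionRing R, uη.comp ψ, uη.toLinearMap ∘ₗ ρ, fun c j => by simp [hρ c j], hpush uη⟩
  let d' : Dat J := ⟨IsLocalRing.ResidueField R, us.comp ψ, us.toLinearMap ∘ₗ ρ, fun c j => by simp [hρ c j], hpush us⟩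
  refine ⟨d, d', ?_, ?_, linked_of_family Z hH J hm hn ρ ψ hρ hspan d d' uη rfl us rfl⟩
  · rw [← hker]
    ext c
    simp only [RingHom.mem_ker]
    exact map_eq_zero_iff _ (IsFractionRing.injective R (FractionRing R))
  · rw [← hcomap]
    ext c
    exact IsLocalRing.residue_eq_zero_iff (f c)

end families

end Groth.Agent.HilbConn2Lib
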